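import Cfsg.Agent.HNXYZ.Log

set_option autoImplicit false
set_option maxRecDepth 100000
set_option Elab.async false

/-! A logged enumeration: data (generated). -/

namespace CfsgLib.HNXYZ.LA

open CfsgLib.CosetEnum CfsgLib.LyG2

noncomputable section

/-- Parents, packed piece. -/
def parN0 : ℕ := 0x3500330033003100300030002f002e002d002c002c002b002a00290029002800280026002600230023002100200020001e001d001d001c001b001b0019001800170016001400120012000f000f000d000c000b0009000900070006000600050005000400040003000300020001000100000000000000000000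

/-- Parents. -/
def parN (i : ℕ) : ℕ := (pget 16 parN0 (Nat.sub i 0))

/-- Parent letters, packed piece. -/
def parX0 : ℕ := 0x2212203232022323210102213302203322210103212122032302022032100

/-- Parent letters. -/
def parX (i : ℕ) : ℕ := (pget 4 parX0 (Nat.sub i 0))

/-- Facts, packed piece. -/
def fct0 : ℕ := 0x2000500000c000800000d000a0000110014000013001500001a001800003b0039000038003b00003a003500003c0038020036003c020034003b000031003700002e0032000027002a0000290024000025002100001e002200001c001f0000170010020015001a02000b0012000007000e02003c003502003b003301003a0033020039003102003800300000370030030036002f020035002e030034002d020033002c000032002c020031002b020030002a03002f002902002e002903002d002802002c002801002b002600002a002601002900230000280023020027002102002600200100250020030024001e030023001d000022001d020021001c020020001b00001f001b03001e001903001d001802001c001702001b001602001a001401001900120000180012010017000f000016000f030015000d020014000c010013000b02001200090100110009020010000702000f000600000e000603000d000502000c000503000b000400000a0004020009000300000800030200070002020006000100000500010300040000020003000001000200000000010000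

/-- Facts. -/
def fct (i : ℕ) : ℕ := (pget 40 fct0 (Nat.sub i 0))

/-- Justifications, piece. -/
def js0 : List (List ℕ) :=
  [[],
   [],
   [],
   [],
   [],
   [],
   [],
   [],
   [],
   [],
   [],
   [],
   [],
   [],
   [],
   [],
   [],
   [],
   [],
   [],
   [],
   [],
   [],
   [],
   [],
   [],
   [],
   [],
   [],
   [],
   [],
   [],
   [],
   [],
   [],
   [],
   [],
   [],
   [],
   [],
   [],
   [],
   [],
   [],
   [],
   [],
   [],
   [],
   [],
   [],
   [],
   [],
   [],
   [],
   [],
   [],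
   [],
   [],
   [],
   [],
   [2, 2, 4, 3, 0, 10, 26, 13],
   [0, 1, 3, 4, 16, 34, 21, 7],
   [5, 1, 3, 22, 38, 50, 41, 25],
   [6, 2, 3, 26, 120, 30, 45, 29]]

/-- Justifications, piece. -/
def js1 : List (List ℕ) :=
  [[23, 2, 4, 45, 42, 52, 60, 55],
   [29, 2, 1, 66, 59, 49, 46, 56],
   [27, 2, 3, 60, 128, 64, 73, 63],
   [36, 2, 0, 81, 69, 66, 130, 70],
   [33, 2, 4, 132, 73, 74, 82, 77],
   [41, 2, 4, 81, 78, 86, 98, 91],
   [43, 2, 4, 85, 82, 94, 108, 97],
   [40, 1, 3, 86, 100, 116, 103, 89],
   [41, 1, 3, 90, 104, 118, 107, 93],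
   [39, 4, 3, 137, 94, 110, 144, 107, 93, 135, 71, 59, 49, 122, 21, 7, 2, 12, 30, 126, 54, 64, 76],
   [44, 2, 3, 98, 138, 104, 115, 101],
   [53, 2, 3, 148, 115, 116, 146, 119],
   [48, 2, 3, 108, 140, 112, 150, 111],
   [38, 4, 10, 84, 96, 112, 152, 142, 103, 89, 79, 69, 57, 124, 41, 25, 9, 10, 28, 42, 52, 62, 74],
   [18, 2, 3, 46, 154, 124, 37, 123],
   [20, 2, 0, 33, 34, 46, 154, 51],
   [21, 2, 4, 156, 37, 21, 18, 40],
   [3, 2, 1, 14, 38, 158, 33, 17],
   [4, 2, 3, 18, 160, 25, 3, 6]]

/-- Justifications. -/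
def just (i : ℕ) : List ℕ := (bif Nat.blt i 64 then (js0.getD (Nat.sub i 0) []) else (js1.getD (Nat.sub i 64) []))

/-- The words. -/
def words : List (List ℕ) :=
  [[],
   [2, 2, 2, 2, 2, 2],
   [0, 0, 2, 0, 0, 3],
   [1, 3, 0, 2, 1, 3, 0, 2, 1, 3, 0, 2],
   [1, 2, 2, 0, 2, 2, 2, 1, 2, 2, 0, 2, 2, 2, 1, 2, 2, 0, 2, 2, 2],
   [0, 2, 0, 2, 0, 2, 0, 2, 0, 2, 0, 2, 0, 2, 0, 2],
   [0, 2, 0, 2, 2, 2, 0, 2, 0, 2, 2, 2, 0, 2, 0, 2, 2, 2, 0, 2, 0, 2, 2, 2]]

/-- The log. -/
def log : Log where
  N := 61
  nF := 83
  k := 4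
  nR := 7
  words := words
  parN := parN
  parX := parX
  fct := fct
  just := just

/-- References of a loop. -/
def loop0 : List ℕ := [0, 8, 164, 3]

/-- References of a loop. -/
def loop1 : List ℕ := [0, 8, 22, 163, 15, 5]

end

end CfsgLib.HNXYZ.LA
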