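import Cfsg.Agent.HNXYZ.Cert.LCData

set_option autoImplicit false
set_option maxRecDepth 100000
set_option Elab.async false

/-! A logged enumeration: checks. -/

namespace CfsgLib.HNXYZ.LC

open CfsgLib.CosetEnum CfsgLib.LyG2

noncomputable section

theorem chunk0 : log.chunk 5 0 = true := by decide +kernel

theorem factsOK : ∀ i < log.nF, log.factOK i = true := by
  intro i hi
  have hi : i < 24 := hi
  exact chunk_spec _ chunk0 i (by omega) (by omega)

theorem loop0_ok : log.loopOK [0, 0, 2, 2, 0, 0, 3, 3] loop0 = true := by decide +kernel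

theorem loop1_ok : log.loopOK [0, 0, 2, 2, 1, 1, 3, 3] loop1 = true := by decide +kernel

theorem loop2_ok : log.loopOK [0, 0, 2, 2, 2, 0, 0, 3, 3, 3] loop2 = true := by decide +kernel

theorem loop3_ok : log.loopOK [0, 0, 2, 2, 2, 1, 1, 3, 3, 3] loop3 = true := by decide +kernel

theorem letters_ok : log.words.all (fun w => w.all fun x => Nat.blt x 14) = true := by
  decide +kernel

end

end CfsgLib.HNXYZ.LC
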