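import Cfsg.Agent.HNXYZ.Log

set_option autoImplicit false
set_option maxRecDepth 100000
set_option Elab.async false

/-! A logged enumeration: data (generated). -/

namespace CfsgLib.HNXYZ.LC

open CfsgLib.CosetEnum CfsgLib.LyG2

noncomputable section

/-- Parents, packed piece. -/
def parN0 : ℕ := 0xe000d000d000900060006000600050005000400040003000100000000000000000000

/-- Parents. -/
def parN (i : ℕ) : ℕ := (pget 16 parN0 (Nat.sub i 0))

/-- Parent letters, packed piece. -/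
def parX0 : ℕ := 0x210221032102032100

/-- Parent letters. -/
def parX (i : ℕ) : ℕ := (pget 4 parX0 (Nat.sub i 0))

/-- Facts, packed piece. -/
def fct0 : ℕ := 0x1000b000e01000e000c010011001000000a000701000f00110000020005000008000a020011000e010010000d00000f000d02000e000902000d000601000c000600000b000603000a0005020009000501000800040000070004020006000300000500010300040000020003000001000200000000010000

/-- Facts. -/
def fct (i : ℕ) : ℕ := (pget 40 fct0 (Nat.sub i 0))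

/-- Justifications, piece. -/
def js0 : List (List ℕ) :=
  [[],
   [],
   [],
   [],
   [],
   [],
   [],
   [],
   [],
   [],
   [],
   [],
   [],
   [],
   [],
   [],
   [],
   [10, 2, 0, 15, 7, 0, 8, 18],
   [0, 7, 2, 0, 8, 3],
   [1, 12, 4, 8, 16, 26, 32, 29, 25, 11, 5, 0],
   [4, 8, 1, 12, 19, 9, 1, 6],
   [2, 12, 5, 3, 4, 10, 24, 30, 33, 27, 17, 36],
   [8, 12, 5, 15, 7, 4, 10, 22, 27, 17, 18, 34],
   [7, 12, 4, 40, 19, 16, 26, 21, 11, 5, 6, 12]]

/-- Justifications. -/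
def just (i : ℕ) : List ℕ := (js0.getD (Nat.sub i 0) [])

/-- The words. -/
def words : List (List ℕ) :=
  [[],
   [2, 2, 2, 2, 2, 2],
   [0, 0, 2, 0, 0, 3],
   [1, 3, 0, 2, 1, 3, 0, 2, 1, 3, 0, 2],
   [1, 2, 2, 0, 2, 2, 2, 1, 2, 2, 0, 2, 2, 2, 1, 2, 2, 0, 2, 2, 2],
   [0, 2, 0, 2, 0, 2, 0, 2, 0, 2, 0, 2, 0, 2, 0, 2],
   [0, 2, 0, 2, 2, 2, 0, 2, 0, 2, 2, 2, 0, 2, 0, 2, 2, 2, 0, 2, 0, 2, 2, 2],
   [0, 0, 0, 0],
   [0, 0, 2, 1, 1, 3],
   [2, 2, 2, 2, 2, 2],
   [2, 2, 1, 2, 2, 2, 0, 2, 2, 1, 2, 2, 2, 0, 2, 2, 1, 3, 3, 3, 0],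
   [2, 1, 2, 2, 2, 0, 2, 1, 2, 2, 2, 0, 2, 1, 3, 3, 3, 0, 2, 1, 3, 3, 3, 0],
   [0, 2, 2, 2, 1, 1, 3, 3, 3, 0]]

/-- The log. -/
def log : Log where
  N := 18
  nF := 24
  k := 4
  nR := 13
  words := words
  parN := parN
  parX := parX
  fct := fct
  just := just

/-- References of a loop. -/
def loop0 : List ℕ := [0, 8, 16, 26, 45, 23, 11, 5]

/-- References of a loop. -/
def loop1 : List ℕ := [0, 8, 16, 26, 46, 21, 11, 5]

/-- References of a loop. -/
def loop2 : List ℕ := [0, 8, 16, 26, 32, 43, 31, 25, 11, 5]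

/-- References of a loop. -/
def loop3 : List ℕ := [0, 8, 16, 26, 32, 38, 29, 25, 11, 5]

end

end CfsgLib.HNXYZ.LC
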