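import Cfsg.Agent.HNXYZ.Cert.S1Data

set_option autoImplicit false
set_option maxRecDepth 100000
set_option Elab.async false

/-! A logged enumeration: checks. -/

namespace CfsgLib.HNXYZ.S1

open CfsgLib.CosetEnum CfsgLib.LyG2

noncomputable section

theorem chunk0 : log.chunk 11 0 = true := by decide +kernel

theorem chunk1 : log.chunk 11 2048 = true := by decide +kernel

theorem chunk2 : log.chunk 11 4096 = true := by decide +kernel

theorem chunk3 : log.chunk 11 6144 = true := by decide +kernel

theorem chunk4 : log.chunk 11 8192 = true := by decide +kernel

theorem chunk5 : log.chunk 11 10240 = true := by decide +kernel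

theorem chunk6 : log.chunk 11 12288 = true := by decide +kernel

theorem chunk7 : log.chunk 11 14336 = true := by decide +kernel

theorem chunk8 : log.chunk 11 16384 = true := by decide +kernel

theorem factsOK : ∀ i < log.nF, log.factOK i = true := by
  intro i hi
  have hi : i < 17531 := hi
  by_cases h0 : i < 2048
  · exact chunk_spec _ chunk0 i (by omega) (by omega)
  by_cases h1 : i < 4096
  · exact chunk_spec _ chunk1 i (by omega) (by omega)
  by_cases h2 : i < 6144
  · exact chunk_spec _ chunk2 i (by omega) (by omega)
  by_cases h3 : i < 8192
  · exact chunk_spec _ chunk3 i (by omega) (by omega)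
  by_cases h4 : i < 10240
  · exact chunk_spec _ chunk4 i (by omega) (by omega)
  by_cases h5 : i < 12288
  · exact chunk_spec _ chunk5 i (by omega) (by omega)
  by_cases h6 : i < 14336
  · exact chunk_spec _ chunk6 i (by omega) (by omega)
  by_cases h7 : i < 16384
  · exact chunk_spec _ chunk7 i (by omega) (by omega)
  exact chunk_spec _ chunk8 i (by omega) (by omega)

theorem edges0 : allR (log.edgesOK closed) 11 0 = true := by decide +kernel

theorem edges1 : allR (log.edgesOK closed) 11 2048 = true := by decide +kernel

theorem edges2 : allR (log.edgesOK closed) 11 4096 = true := by decide +kernel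

theorem edges3 : allR (log.edgesOK closed) 11 6144 = true := by decide +kernel

theorem edgesOK : allR (log.edgesOK closed) 13 0 = true :=
  (allR_join (allR_join edges0 (by decide) edges1) (by decide) (allR_join edges2 (by decide) edges3))

theorem letters_ok : log.words.all (fun w => w.all fun x => Nat.blt x 14) = true := by
  decide +kernel

end

end CfsgLib.HNXYZ.S1
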